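import Mathlib
import Groth.Prelude.Def_EGA41

/-!
Differentials of formally smooth algebras for adic topologies are projective modulo open ideals.
-/

set_option autoImplicit false
set_option linter.style.haveILetI false
universe u
open TensorProduct

namespace Groth.Agent.FSmoothAdicLib

theorem projective_kaehler {A B : Type u} [CommRing A] [CommRing B] [Algebra A B]
    (𝔞 : Ideal A) (𝔟 : Ideal B) (hAB : ∃ k : ℕ, (𝔞 ^ k).map (algebraMap A B) ≤ 𝔟)
    (h : EGA41.IsFormallySmoothAdic A 𝔞 B 𝔟) (𝔄 : Ideal B) (h𝔄 : ∃ n : ℕ, 𝔟 ^ n ≤ 𝔄) :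
    Module.Projective (B ⧸ 𝔄) ((B ⧸ 𝔄) ⊗[B] Ω[B⁄A]) := by
  obtain ⟨k, hk⟩ := hAB
  obtain ⟨n, hn⟩ := h𝔄
  let Q := B ⧸ 𝔄
  refine Module.Projective.of_lifting_property ?_
  intro M N _ _ _ _ q g hq
  letI : Module B M := Module.compHom M (algebraMap B Q)
  letI : Module B N := Module.compHom N (algebraMap B Q)
  letI : Module A M := Module.compHom M (algebraMap A Q)
  letI : Module A N := Module.compHom N (algebraMap A Q)
  haveI : IsScalarTower B Q M := IsScalarTower.of_algebraMap_smul fun _ _ => rfl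
  haveI : IsScalarTower B Q N := IsScalarTower.of_algebraMap_smul fun _ _ => rfl
  haveI : IsScalarTower A Q M := IsScalarTower.of_algebraMap_smul fun _ _ => rfl
  haveI : IsScalarTower A Q N := IsScalarTower.of_algebraMap_smul fun _ _ => rfl
  haveI : IsScalarTower A B M := IsScalarTower.of_algebraMap_smul fun a m => by
    rw [← algebraMap_smul Q (algebraMap A B a) m, ← IsScalarTower.algebraMap_apply, algebraMap_smul]
  haveI : IsScalarTower A B N := IsScalarTower.of_algebraMap_smul fun a m => by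
    rw [← algebraMap_smul Q (algebraMap A B a) m, ← IsScalarTower.algebraMap_apply, algebraMap_smul]
  letI : Module Qᵐᵒᵖ M := Module.compHom M ((RingHom.id Q).fromOpposite mul_comm)
  letI : Module Qᵐᵒᵖ N := Module.compHom N ((RingHom.id Q).fromOpposite mul_comm)
  haveI : IsCentralScalar Q M := ⟨fun _ _ => rfl⟩
  haveI : IsCentralScalar Q N := ⟨fun _ _ => rfl⟩
  letI : Algebra A (TrivSqZeroExt Q M) := ((TrivSqZeroExt.inlHom Q M).comp (algebraMap A Q)).toAlgebra
  letI : Algebra A (TrivSqZeroExt Q N) := ((TrivSqZeroExt.inlHom Q N).comp (algebraMap A Q)).toAlgebra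
  let D : Derivation A B N := (((g.restrictScalars B).comp (TensorProduct.mk B Q Ω[B⁄A] 1))).compDer (KaehlerDifferential.D A B)
  have hpowD : ∀ x ∈ 𝔟 ^ (n + n), D x = 0 := by
    intro x hx
    rw [pow_add] at hx
    refine Submodule.mul_induction_on hx (fun a ha b hb => ?_) (fun a b ha hb => by rw [map_add, ha, hb, add_zero])
    rw [Derivation.leibniz, ← algebraMap_smul Q a, ← algebraMap_smul Q b]
    rw [show algebraMap B Q a = 0 from Ideal.Quotient.eq_zero_iff_mem.2 (hn ha),
      show algebraMap B Q b = 0 from Ideal.Quotient.eq_zero_iff_mem.2 (hn hb), zero_smul, zero_smul, add_zero]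
  -- the test rings
  let Φ : TrivSqZeroExt Q M →ₐ[A] TrivSqZeroExt Q N :=
    { (TrivSqZeroExt.map q : TrivSqZeroExt Q M →ₐ[Q] TrivSqZeroExt Q N).toRingHom with
      commutes' := fun a => (TrivSqZeroExt.map q : TrivSqZeroExt Q M →ₐ[Q] TrivSqZeroExt Q N).commutes (algebraMap A Q a) }
  have hΦf : ∀ z, (Φ z).fst = z.fst := fun z => TrivSqZeroExt.fst_map q z
  have hΦs : ∀ z, (Φ z).snd = q z.snd := fun z => TrivSqZeroExt.snd_map q z
  have hΦ : Function.Surjective Φ := fun z => by
    obtain ⟨m, hm⟩ := hq z.snd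
    exact ⟨TrivSqZeroExt.inl z.fst + TrivSqZeroExt.inr m, TrivSqZeroExt.ext (by simp [hΦf]) (by simp [hΦs, hm])⟩
  let J := RingHom.ker Φ
  have hJ : IsNilpotent J := ⟨2, by
    rw [Ideal.zero_eq_bot, pow_two, eq_bot_iff, Ideal.mul_le]
    intro z hz w hw
    have hz0 : z.fst = 0 := by rw [← hΦf, show Φ z = 0 from hz, TrivSqZeroExt.fst_zero]
    have hw0 : w.fst = 0 := by rw [← hΦf, show Φ w = 0 from hw, TrivSqZeroExt.fst_zero]
    refine TrivSqZeroExt.ext ?_ ?_
    · simp [hz0]
    · simp [hz0, hw0]⟩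
  let e : (TrivSqZeroExt Q M ⧸ J) ≃ₐ[A] TrivSqZeroExt Q N := Ideal.quotientKerAlgEquivOfSurjective hΦ
  let w : B →ₐ[A] TrivSqZeroExt Q N :=
    { toFun := fun b => TrivSqZeroExt.inl (algebraMap B Q b) + TrivSqZeroExt.inr (D b)
      map_one' := by simp
      map_zero' := by simp
      map_add' := fun a b => by rw [map_add, map_add, TrivSqZeroExt.inl_add, TrivSqZeroExt.inr_add]; abel
      map_mul' := fun a b => by
        refine TrivSqZeroExt.ext ?_ ?_
        · simp only [TrivSqZeroExt.fst_add, TrivSqZeroExt.fst_mul, TrivSqZeroExt.fst_inl, TrivSqZeroExt.fst_inr, map_mul]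
          ring
        · rw [TrivSqZeroExt.snd_mul, op_smul_eq_smul]
          simp only [TrivSqZeroExt.fst_add, TrivSqZeroExt.snd_add, TrivSqZeroExt.fst_inl, TrivSqZeroExt.fst_inr,
            TrivSqZeroExt.snd_inl, TrivSqZeroExt.snd_inr]
          rw [add_zero, add_zero, zero_add, zero_add, zero_add, Derivation.leibniz, algebraMap_smul, algebraMap_smul]
      commutes' := fun a => by
        show TrivSqZeroExt.inl (algebraMap B Q (algebraMap A B a)) + TrivSqZeroExt.inr (D (algebraMap A B a)) = _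
        rw [Derivation.map_algebraMap, TrivSqZeroExt.inr_zero, add_zero, ← IsScalarTower.algebraMap_apply]
        rfl }
  obtain ⟨v, hv⟩ := h (TrivSqZeroExt Q M) J hJ ⟨k * n, by
      rw [eq_bot_iff, Ideal.map_le_iff_le_comap]
      intro a ha
      show algebraMap A (TrivSqZeroExt Q M) a = 0
      show TrivSqZeroExt.inl (algebraMap A Q a) = 0
      rw [IsScalarTower.algebraMap_apply A B Q, show algebraMap B Q (algebraMap A B a) = 0 from
        Ideal.Quotient.eq_zero_iff_mem.2 (hn (Ideal.pow_right_mono hk n (by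
          rw [← Ideal.map_pow, ← pow_mul]; exact Ideal.mem_map_of_mem _ ha))), TrivSqZeroExt.inl_zero]⟩
    (e.symm.toAlgHom.comp w) ⟨n + n, fun x hx => by
      show e.symm (w x) = 0
      rw [map_eq_zero_iff _ e.symm.injective]
      show TrivSqZeroExt.inl (algebraMap B Q x) + TrivSqZeroExt.inr (D x) = 0
      rw [hpowD x hx, TrivSqZeroExt.inr_zero, add_zero, show algebraMap B Q x = 0 from
        Ideal.Quotient.eq_zero_iff_mem.2 (hn (Ideal.pow_le_pow_right (Nat.le_add_right n n) hx)), TrivSqZeroExt.inl_zero]⟩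
  have hΦv : ∀ b, Φ (v b) = w b := fun b => by
    have h1 : e (Ideal.Quotient.mk J (v b)) = w b :=
      (congrArg e (AlgHom.congr_fun hv b)).trans (e.apply_symm_apply _)
    exact h1
  have hfst : ∀ b, (v b).fst = algebraMap B Q b := fun b => by
    rw [← hΦf, hΦv]
    show TrivSqZeroExt.fst (TrivSqZeroExt.inl (algebraMap B Q b) + TrivSqZeroExt.inr (D b)) = _
    simp
  let D' : Derivation A B M := Derivation.mk'
    { toFun := fun b => (v b).snd
      map_add' := fun a b => by rw [map_add, TrivSqZeroExt.snd_add]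
      map_smul' := fun a b => by
        rw [Algebra.smul_def, map_mul, AlgHom.commutes, TrivSqZeroExt.snd_mul]
        show algebraMap A Q a • (v b).snd + MulOpposite.op (v b).fst • (0 : M) = _
        rw [smul_zero, add_zero, algebraMap_smul]
        rfl }
    fun a b => by
      show (v (a * b)).snd = a • (v b).snd + b • (v a).snd
      rw [map_mul, TrivSqZeroExt.snd_mul, op_smul_eq_smul, hfst, hfst, algebraMap_smul, algebraMap_smul]
  refine ⟨D'.liftKaehlerDifferential.liftBaseChange Q, TensorProduct.AlgebraTensorModule.ext fun c ω => ?_⟩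
  rw [LinearMap.comp_apply, LinearMap.liftBaseChange_tmul, map_smul,
    show c ⊗ₜ[B] ω = c • ((1 : Q) ⊗ₜ[B] ω) by rw [TensorProduct.smul_tmul', smul_eq_mul, mul_one], map_smul]
  congr 1
  have key : (q.restrictScalars B).comp D'.liftKaehlerDifferential =
      (g.restrictScalars B).comp (TensorProduct.mk B Q Ω[B⁄A] 1) := by
    refine LinearMap.ext_on (KaehlerDifferential.span_range_derivation A B) ?_
    rintro _ ⟨b, rfl⟩
    show q (D'.liftKaehlerDifferential (KaehlerDifferential.D A B b)) = D b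
    rw [Derivation.liftKaehlerDifferential_comp_D]
    show q (v b).snd = D b
    rw [← hΦs, hΦv]
    show TrivSqZeroExt.snd (TrivSqZeroExt.inl (algebraMap B Q b) + TrivSqZeroExt.inr (D b)) = _
    simp
  exact LinearMap.congr_fun key ω

end Groth.Agent.FSmoothAdicLib
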