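import Mathlib
import Groth.Prelude.Def_EGA41

/-!
Lifting formally smooth algebras (adic topologies) into complete rings.
-/

set_option autoImplicit false
universe u v w

namespace Groth.Agent.FSmoothAdicLib

/-- Gluing algebra homomorphisms into `C/(K₁ ⊓ K₂)`. -/
theorem exists_hom_inf {A B C : Type u} [CommRing A] [CommRing B] [CommRing C] [Algebra A B] [Algebra A C]
    (K₁ K₂ : Ideal C) (f₁ : B →ₐ[A] C ⧸ K₁) (f₂ : B →ₐ[A] C ⧸ K₂)
    (h : ∀ b, ∀ c₁ c₂ : C, Ideal.Quotient.mk K₁ c₁ = f₁ b → Ideal.Quotient.mk K₂ c₂ = f₂ b → c₁ - c₂ ∈ K₁ ⊔ K₂) :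
    ∃ g : B →ₐ[A] C ⧸ (K₁ ⊓ K₂), (Ideal.Quotient.factorₐ A inf_le_left).comp g = f₁ ∧
      (Ideal.Quotient.factorₐ A inf_le_right).comp g = f₂ := by
  classical
  let Φ : C ⧸ (K₁ ⊓ K₂) →ₐ[A] (C ⧸ K₁) × (C ⧸ K₂) :=
    (Ideal.Quotient.factorₐ A inf_le_left).prod (Ideal.Quotient.factorₐ A inf_le_right)
  have hΦ : Function.Injective Φ := by
    rw [injective_iff_map_eq_zero]
    intro x hx
    obtain ⟨c, rfl⟩ := Ideal.Quotient.mk_surjective x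
    have h1 : Ideal.Quotient.mk K₁ c = 0 := congrArg Prod.fst hx
    have h2 : Ideal.Quotient.mk K₂ c = 0 := congrArg Prod.snd hx
    exact Ideal.Quotient.eq_zero_iff_mem.2 ⟨Ideal.Quotient.eq_zero_iff_mem.1 h1, Ideal.Quotient.eq_zero_iff_mem.1 h2⟩
  have hmem : ∀ b, (f₁.prod f₂) b ∈ Φ.range := by
    intro b
    obtain ⟨c₁, hc₁⟩ := Ideal.Quotient.mk_surjective (f₁ b)
    obtain ⟨c₂, hc₂⟩ := Ideal.Quotient.mk_surjective (f₂ b)
    obtain ⟨x, hx, y, hy, hxy⟩ := Submodule.mem_sup.1 (h b c₁ c₂ hc₁ hc₂)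
    refine ⟨Ideal.Quotient.mk _ (c₁ - x), Prod.ext ?_ ?_⟩
    · show Ideal.Quotient.mk K₁ (c₁ - x) = f₁ b
      rw [← hc₁, Ideal.Quotient.eq]; simpa using K₁.neg_mem hx
    · show Ideal.Quotient.mk K₂ (c₁ - x) = f₂ b
      rw [← hc₂, Ideal.Quotient.eq, show c₁ - x - c₂ = y by linear_combination -hxy]; exact hy
  refine ⟨(AlgEquiv.ofInjective Φ hΦ).symm.toAlgHom.comp ((f₁.prod f₂).codRestrict _ hmem), ?_, ?_⟩ <;>
    refine AlgHom.ext fun b => ?_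
  · exact congrArg Prod.fst (congrArg Subtype.val ((AlgEquiv.ofInjective Φ hΦ).apply_symm_apply ((f₁.prod f₂).codRestrict _ hmem b)))
  · exact congrArg Prod.snd (congrArg Subtype.val ((AlgEquiv.ofInjective Φ hΦ).apply_symm_apply ((f₁.prod f₂).codRestrict _ hmem b)))

theorem exists_lift_complete {A B C : Type u} [CommRing A] [CommRing B] [CommRing C] [Algebra A B]
    [Algebra A C] (𝔞 : Ideal A) (𝔟 : Ideal B) (𝔠 : Ideal C) (hB : EGA41.IsFormallySmoothAdic A 𝔞 B 𝔟)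
    [IsAdicComplete 𝔠 C] (hAC : ∃ k : ℕ, (𝔞 ^ k).map (algebraMap A C) ≤ 𝔠)
    (J : Ideal C) (hJ : ∃ t : ℕ, J ^ t ≤ 𝔠) [IsHausdorff (𝔠.map (Ideal.Quotient.mk J)) (C ⧸ J)]
    (u : B →ₐ[A] C ⧸ J) (hu : ∃ k : ℕ, (𝔟 ^ k).map u.toRingHom ≤ 𝔠.map (Ideal.Quotient.mk J)) :
    ∃ v : B →ₐ[A] C, (∃ k : ℕ, (𝔟 ^ k).map v.toRingHom ≤ 𝔠) ∧ (Ideal.Quotient.mkₐ A J).comp v = u := by
  classical
  obtain ⟨a, ha⟩ := hAC
  obtain ⟨t, ht⟩ := hJ
  obtain ⟨k, hk⟩ := hu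
  have hukill : ∀ n, ∀ x ∈ 𝔟 ^ (k * n), ∀ c, Ideal.Quotient.mk J c = u x → c ∈ J ⊔ 𝔠 ^ n := by
    intro n x hx c hc
    have h1 : u x ∈ (𝔠 ^ n).map (Ideal.Quotient.mk J) := by
      rw [Ideal.map_pow]
      refine Ideal.pow_right_mono hk n ?_
      rw [← Ideal.map_pow, ← pow_mul]
      exact Ideal.mem_map_of_mem _ hx
    rw [← hc, Ideal.mem_quotient_iff_mem_sup, sup_comm] at h1
    exact h1
  have hAkill : ∀ n, ∃ j, (𝔞 ^ j).map (algebraMap A (C ⧸ 𝔠 ^ n)) = ⊥ := fun n => ⟨a * n, by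
    rw [IsScalarTower.algebraMap_eq A C (C ⧸ 𝔠 ^ n), ← Ideal.map_map, Ideal.Quotient.algebraMap_eq, eq_bot_iff,
      Ideal.map_le_iff_le_comap, ← RingHom.ker_eq_comap_bot, Ideal.mk_ker, pow_mul, Ideal.map_pow]
    exact Ideal.pow_right_mono ha n⟩
  -- the approximations
  let P : (n : ℕ) → (B →ₐ[A] C ⧸ 𝔠 ^ (n + 1)) → Prop := fun n v =>
    ∀ b c d, Ideal.Quotient.mk (𝔠 ^ (n + 1)) c = v b → Ideal.Quotient.mk J d = u b → c - d ∈ J ⊔ 𝔠 ^ (n + 1)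
  have h0 : ∃ v₀ : B →ₐ[A] C ⧸ 𝔠 ^ (0 + 1), P 0 v₀ := by
    let K := (J ⊔ 𝔠 ^ (0 + 1)).map (Ideal.Quotient.mk (𝔠 ^ (0 + 1)))
    have hK : IsNilpotent K := by
      refine ⟨t + 1, ?_⟩
      rw [Ideal.zero_eq_bot, eq_bot_iff, ← Ideal.map_pow, Ideal.map_le_iff_le_comap, ← RingHom.ker_eq_comap_bot, Ideal.mk_ker]
      refine Ideal.sup_pow_add_le_pow_sup_pow.trans (sup_le ?_ ?_)
      · rw [zero_add, pow_one]; exact ht
      · rw [← pow_mul]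
    let u' : B →ₐ[A] (C ⧸ 𝔠 ^ (0 + 1)) ⧸ K :=
      (DoubleQuot.quotQuotEquivQuotOfLEₐ A (le_sup_right : 𝔠 ^ (0 + 1) ≤ J ⊔ 𝔠 ^ (0 + 1))).symm.toAlgHom.comp
        ((Ideal.Quotient.factorₐ A (le_sup_left : J ≤ J ⊔ 𝔠 ^ (0 + 1))).comp u)
    have hu' : ∀ b d, Ideal.Quotient.mk J d = u b → u' b = Ideal.Quotient.mk K (Ideal.Quotient.mk _ d) := by
      intro b d hd
      exact (congrArg (fun z => (DoubleQuot.quotQuotEquivQuotOfLEₐ A (le_sup_right : 𝔠 ^ (0 + 1) ≤ J ⊔ 𝔠 ^ (0 + 1))).symm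
        ((Ideal.Quotient.factorₐ A (le_sup_left : J ≤ J ⊔ 𝔠 ^ (0 + 1))) z)) hd).symm.trans rfl
    obtain ⟨v₀, hv₀⟩ := hB (C ⧸ 𝔠 ^ (0 + 1)) K hK (hAkill _) u' ⟨k * (0 + 1), fun x hx => by
      obtain ⟨d, hd⟩ := Ideal.Quotient.mk_surjective (u x)
      rw [hu' x d hd, Ideal.Quotient.eq_zero_iff_mem]
      exact Ideal.mem_map_of_mem _ (hukill _ x hx d hd)⟩
    refine ⟨v₀, fun b c d hc hd => ?_⟩
    have h1 : Ideal.Quotient.mk K (Ideal.Quotient.mk (𝔠 ^ (0 + 1)) c) = Ideal.Quotient.mk K (Ideal.Quotient.mk _ d) := by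
      rw [hc, ← hu' b d hd]; exact AlgHom.congr_fun hv₀ b
    have h2 : Ideal.Quotient.mk (𝔠 ^ (0 + 1)) (c - d) ∈ K := by
      rw [map_sub]; exact Ideal.Quotient.eq.1 h1
    rw [Ideal.mem_quotient_iff_mem_sup, sup_eq_left.2 le_sup_right] at h2
    exact h2
  have hvkill : ∀ n v, P n v → ∃ j, ∀ x ∈ 𝔟 ^ j, ∀ c, Ideal.Quotient.mk (𝔠 ^ (n + 1)) c = v x → c ∈ 𝔠 ^ (n + 1) := by
    intro n v hv
    refine ⟨k * (n + 1) * ((t + 1) * (n + 1)), fun x hx c hc => ?_⟩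
    rw [pow_mul] at hx
    have hle : Ideal.map v.toRingHom (𝔟 ^ (k * (n + 1))) ≤ (J ⊔ 𝔠 ^ (n + 1)).map (Ideal.Quotient.mk (𝔠 ^ (n + 1))) := by
      rw [Ideal.map_le_iff_le_comap]
      intro y hy
      obtain ⟨c', hc'⟩ := Ideal.Quotient.mk_surjective (v y)
      obtain ⟨d, hd⟩ := Ideal.Quotient.mk_surjective (u y)
      rw [Ideal.mem_comap]
      show v y ∈ _
      rw [← hc']
      refine Ideal.mem_map_of_mem _ ?_
      rw [← sub_add_cancel c' d]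
      exact add_mem (hv y c' d hc' hd) (hukill _ y hy d hd)
    have h1 : v x ∈ ((J ⊔ 𝔠 ^ (n + 1)) ^ ((t + 1) * (n + 1))).map (Ideal.Quotient.mk (𝔠 ^ (n + 1))) := by
      rw [Ideal.map_pow]
      refine Ideal.pow_right_mono hle _ ?_
      rw [← Ideal.map_pow]
      exact Ideal.mem_map_of_mem _ hx
    rw [← hc, Ideal.mem_quotient_iff_mem_sup] at h1
    refine (sup_le ?_ le_rfl : _ ≤ 𝔠 ^ (n + 1)) h1
    rw [pow_mul]
    refine Ideal.pow_right_mono ?_ _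
    refine Ideal.sup_pow_add_le_pow_sup_pow.trans (sup_le ht ?_)
    rw [pow_one]; exact Ideal.pow_le_self (by omega)
  have hstep : ∀ n v, P n v → ∃ v' : B →ₐ[A] C ⧸ 𝔠 ^ (n + 1 + 1), P (n + 1) v' ∧
      (Ideal.Quotient.factorₐ A (Ideal.pow_le_pow_right (by omega : n + 1 ≤ n + 1 + 1))).comp v' = v := by
    intro n v hv
    obtain ⟨g, hg1, hg2⟩ := exists_hom_inf (J ⊔ 𝔠 ^ (n + 1 + 1)) (𝔠 ^ (n + 1))
      ((Ideal.Quotient.factorₐ A (le_sup_left : J ≤ J ⊔ 𝔠 ^ (n + 1 + 1))).comp u) v (fun b c₁ c₂ h₁ h₂ => by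
        obtain ⟨d, hd⟩ := Ideal.Quotient.mk_surjective (u b)
        rw [AlgHom.comp_apply, ← hd] at h₁
        have hd' : c₁ - d ∈ J ⊔ 𝔠 ^ (n + 1 + 1) := Ideal.Quotient.eq.1 h₁
        have he : J ⊔ 𝔠 ^ (n + 1) ≤ J ⊔ 𝔠 ^ (n + 1 + 1) ⊔ 𝔠 ^ (n + 1) := sup_le (le_sup_left.trans le_sup_left) le_sup_right
        rw [show c₁ - c₂ = (c₁ - d) - (c₂ - d) by ring]
        exact sub_mem (Submodule.mem_sup_left hd') (he (hv b c₂ d h₂ hd)))
    let L := (J ⊔ 𝔠 ^ (n + 1 + 1)) ⊓ 𝔠 ^ (n + 1)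
    have hL : 𝔠 ^ (n + 1 + 1) ≤ L := le_inf le_sup_right (Ideal.pow_le_pow_right (by omega))
    let K := L.map (Ideal.Quotient.mk (𝔠 ^ (n + 1 + 1)))
    have hK : IsNilpotent K := ⟨2, by
      rw [Ideal.zero_eq_bot, eq_bot_iff, ← Ideal.map_pow, Ideal.map_le_iff_le_comap, ← RingHom.ker_eq_comap_bot, Ideal.mk_ker]
      refine (Ideal.pow_right_mono inf_le_right 2).trans ?_
      rw [← pow_mul]
      exact Ideal.pow_le_pow_right (by omega)⟩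
    let e := DoubleQuot.quotQuotEquivQuotOfLEₐ A hL
    obtain ⟨j, hj⟩ := hvkill n v hv
    obtain ⟨v', hv'⟩ := hB (C ⧸ 𝔠 ^ (n + 1 + 1)) K hK (hAkill _) (e.symm.toAlgHom.comp g) ⟨max j (k * (n + 1 + 1)), fun x hx => by
      obtain ⟨c, hc⟩ := Ideal.Quotient.mk_surjective (g x)
      show e.symm (g x) = 0
      rw [show g x = 0 by
        rw [← hc, Ideal.Quotient.eq_zero_iff_mem]
        refine ⟨?_, ?_⟩
        · obtain ⟨d, hd⟩ := Ideal.Quotient.mk_surjective (u x)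
          have h1 := AlgHom.congr_fun hg1 x
          rw [AlgHom.comp_apply, ← hc, AlgHom.comp_apply, ← hd] at h1
          rw [← sub_add_cancel c d]
          exact add_mem (Ideal.Quotient.eq.1 h1) (hukill _ x (Ideal.pow_le_pow_right (le_max_right _ _) hx) d hd)
        · have h2 := AlgHom.congr_fun hg2 x
          rw [AlgHom.comp_apply, ← hc] at h2
          exact hj x (Ideal.pow_le_pow_right (le_max_left _ _) hx) c h2, map_zero]⟩
    have hv'' : ∀ b c, Ideal.Quotient.mk (𝔠 ^ (n + 1 + 1)) c = v' b → Ideal.Quotient.mk L c = g b := fun b c hc => by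
      have h1 : Ideal.Quotient.mk K (v' b) = e.symm (g b) := AlgHom.congr_fun hv' b
      rw [← hc] at h1
      have h2 := congrArg e h1
      rw [AlgEquiv.apply_symm_apply] at h2
      exact h2
    refine ⟨v', fun b c d hc hd => ?_, AlgHom.ext fun b => ?_⟩
    · have h1 := AlgHom.congr_fun hg1 b
      rw [AlgHom.comp_apply, ← hv'' b c hc, AlgHom.comp_apply, ← hd] at h1
      exact Ideal.Quotient.eq.1 h1
    · obtain ⟨c, hc⟩ := Ideal.Quotient.mk_surjective (v' b)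
      have h2 := AlgHom.congr_fun hg2 b
      rw [AlgHom.comp_apply, ← hv'' b c hc] at h2
      rw [AlgHom.comp_apply, ← hc]
      exact h2
  obtain ⟨v₀, hv₀⟩ := h0
  choose next hnext using hstep
  let seq : (n : ℕ) → {v : B →ₐ[A] C ⧸ 𝔠 ^ (n + 1) // P n v} :=
    fun n => Nat.rec ⟨v₀, hv₀⟩ (fun m v => ⟨next m v.1 v.2, (hnext m v.1 v.2).1⟩) n
  have hsm : StrictMono fun n => n + 1 := fun a b h => by simpa using h
  have hcompat : ∀ {n : ℕ}, (Ideal.Quotient.factorPow 𝔠 (hsm.monotone n.le_succ)).comp (seq (n + 1)).1.toRingHom =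
      (seq n).1.toRingHom := fun {n} => RingHom.ext fun b => AlgHom.congr_fun (hnext n (seq n).1 (seq n).2).2 b
  let V := IsAdicComplete.StrictMono.liftRingHom 𝔠 hsm (fun n => (seq n).1.toRingHom) hcompat
  have hV : ∀ n b, Ideal.Quotient.mk (𝔠 ^ (n + 1)) (V b) = (seq n).1 b := fun n b =>
    IsAdicComplete.StrictMono.mk_liftRingHom 𝔠 hsm (fun n => (seq n).1.toRingHom) hcompat b
  let Va : B →ₐ[A] C :=
   { V with
    commutes' := fun c => by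
      refine sub_eq_zero.1 (IsHausdorff.haus (I := 𝔠) inferInstance _ fun n => ?_)
      rw [SModEq.zero, smul_eq_mul, Ideal.mul_top]
      refine Ideal.pow_le_pow_right n.le_succ ?_
      rw [← Ideal.Quotient.eq_zero_iff_mem, map_sub, sub_eq_zero]
      exact (hV n _).trans ((seq n).1.commutes c) }
  refine ⟨Va, ?_, AlgHom.ext fun b => ?_⟩
  · obtain ⟨j, hj⟩ := hvkill 0 (seq 0).1 (seq 0).2
    refine ⟨j, Ideal.map_le_iff_le_comap.2 fun x hx => ?_⟩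
    have := hj x hx (V x) (hV 0 x)
    rwa [zero_add, pow_one] at this
  · obtain ⟨d, hd⟩ := Ideal.Quotient.mk_surjective (u b)
    show Ideal.Quotient.mk J (V b) = u b
    rw [← hd, ← sub_eq_zero, ← map_sub]
    refine IsHausdorff.haus (I := 𝔠.map (Ideal.Quotient.mk J)) inferInstance _ fun n => ?_
    rw [SModEq.zero, smul_eq_mul, Ideal.mul_top, ← Ideal.map_pow, Ideal.mem_quotient_iff_mem_sup, sup_comm]
    exact sup_le_sup_left (Ideal.pow_le_pow_right n.le_succ) J ((seq n).2 b (V b) d (hV n b) hd)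

end Groth.Agent.FSmoothAdicLib
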