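import Groth.Agent.FSmoothAdicLib.Reduction
import Groth.Agent.ArtFree.Basic

/-!
A flat algebra over a local ring with formally smooth closed fibre is formally smooth for the adic topology.
-/

set_option autoImplicit false
set_option linter.style.haveILetI false
universe u
open IsLocalRing TensorProduct

namespace Groth.Agent.FSmoothAdicLib

theorem isFormallySmoothAdic_of_flat {A B : Type u} [CommRing A] [IsLocalRing A] [CommRing B] [Algebra A B]
    [Module.Flat A B]
    [Algebra.FormallySmooth (A ⧸ maximalIdeal A) (B ⧸ (maximalIdeal A).map (algebraMap A B))] :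
    EGA41.IsFormallySmoothAdic A (maximalIdeal A) B ((maximalIdeal A).map (algebraMap A B)) := by
  refine isFormallySmoothAdic_of_quotient _ _ ?_ ?_
  · intro C _ _ J hJ _ u _
    exact ⟨Algebra.FormallySmooth.lift J hJ u, Algebra.FormallySmooth.comp_lift J hJ u⟩
  intro n P Q _ _ _ _ hP hQ f hf v ⟨m, hm⟩
  let N := n + m + 1
  let I := maximalIdeal A ^ N
  let R := A ⧸ I
  haveI : Nontrivial R := Ideal.Quotient.nontrivial_iff.2
    (ne_top_of_le_ne_top (maximalIdeal.isMaximal A).ne_top (Ideal.pow_le_self (Nat.succ_ne_zero _)))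
  haveI : IsLocalRing R := IsLocalRing.of_surjective' _ Ideal.Quotient.mk_surjective
  have hnil : IsNilpotent (maximalIdeal R) := ⟨N, by
    have : maximalIdeal R = (maximalIdeal A).map (Ideal.Quotient.mk I) :=
      (IsLocalRing.eq_maximalIdeal (Ideal.IsMaximal.map_of_surjective_of_ker_le Ideal.Quotient.mk_surjective
        (by rw [Ideal.mk_ker]; exact Ideal.pow_le_self (Nat.succ_ne_zero _)))).symm
    rw [this, ← Ideal.map_pow, Ideal.zero_eq_bot]
    exact Ideal.map_quotient_self I⟩
  letI : Module R P := Module.IsTorsionBySet.module (M := P) (I := I) fun y a =>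
    hP a.1 (Ideal.pow_le_pow_right (by omega) a.2) y
  letI : Module R Q := Module.IsTorsionBySet.module (M := Q) (I := I) fun y a =>
    hQ a.1 (Ideal.pow_le_pow_right (by omega) a.2) y
  haveI : IsScalarTower A R P := IsScalarTower.of_algebraMap_smul fun _ _ => rfl
  haveI : IsScalarTower A R Q := IsScalarTower.of_algebraMap_smul fun _ _ => rfl
  haveI : Module.Free R (R ⊗[A] B) := Groth.Agent.ArtFree.free_of_flat_of_nilpotent hnil
  let f' : P →ₗ[R] Q := LinearMap.extendScalarsOfSurjective Ideal.Quotient.mk_surjective f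
  obtain ⟨w, hw⟩ := Module.projective_lifting_property f' (v.liftBaseChange R) hf
  refine ⟨w.restrictScalars A ∘ₗ TensorProduct.mk A R B 1, ⟨N, fun x hx => ?_⟩, LinearMap.ext fun b => ?_⟩
  · rw [← Ideal.map_pow] at hx
    have hx' : x ∈ (I • ⊤ : Submodule A B) := by rw [Ideal.smul_top_eq_map]; exact hx
    have h0 : (1 : R) ⊗ₜ[A] x = 0 := by
      refine Submodule.smul_induction_on hx' (fun a ha b _ => ?_) (fun a b ha hb => by rw [TensorProduct.tmul_add, ha, hb, add_zero])
      rw [TensorProduct.tmul_smul, TensorProduct.smul_tmul', Algebra.smul_def, mul_one,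
        show algebraMap A R a = 0 from Ideal.Quotient.eq_zero_iff_mem.2 ha, TensorProduct.zero_tmul]
    show w ((1 : R) ⊗ₜ[A] x) = 0
    rw [h0, map_zero]
  · show f (w ((1 : R) ⊗ₜ[A] b)) = v b
    have := LinearMap.congr_fun hw ((1 : R) ⊗ₜ[A] b)
    rw [LinearMap.comp_apply, LinearMap.liftBaseChange_tmul, one_smul] at this
    exact this

end Groth.Agent.FSmoothAdicLib
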