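import Groth.Agent.FSmoothAdicLib.Lift

/-!
Formal smoothness of a formally projective algebra is detected modulo an ideal of definition of the base.
-/

set_option autoImplicit false
set_option linter.style.haveILetI false
universe u

namespace Groth.Agent.FSmoothAdicLib

variable {A B : Type u} [CommRing A] [CommRing B] [Algebra A B] (𝔞 : Ideal A) (𝔟 : Ideal B)

/-- One lifting step: `J² = 0` and `𝔞 J = 0`. -/
theorem exists_lift_step
    (h₀ : EGA41.IsFormallySmoothAdic (A ⧸ 𝔞) ⊥ (B ⧸ 𝔞.map (algebraMap A B))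
        (𝔟.map (Ideal.Quotient.mk (𝔞.map (algebraMap A B)))))
    (hproj : ∀ (n : ℕ) (P Q : Type u) [AddCommGroup P] [Module A P] [AddCommGroup Q] [Module A Q],
      (∀ a ∈ 𝔞 ^ n, ∀ y : P, a • y = 0) → (∀ a ∈ 𝔞 ^ n, ∀ y : Q, a • y = 0) →
      ∀ f : P →ₗ[A] Q, Function.Surjective f → ∀ v : B →ₗ[A] Q, (∃ m : ℕ, ∀ x ∈ 𝔟 ^ m, v x = 0) →
        ∃ w : B →ₗ[A] P, (∃ m : ℕ, ∀ x ∈ 𝔟 ^ m, w x = 0) ∧ f ∘ₗ w = v)
    {C : Type u} [CommRing C] [Algebra A C] (hC : ∃ k : ℕ, (𝔞 ^ k).map (algebraMap A C) = ⊥)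
    (J : Ideal C) (hJ : J ^ 2 = ⊥) (haJ : ∀ a ∈ 𝔞, ∀ j ∈ J, a • j = 0)
    (u : B →ₐ[A] C ⧸ J) (hu : ∃ m : ℕ, ∀ x ∈ 𝔟 ^ m, u x = 0) :
    ∃ v : B →ₐ[A] C, (∃ m : ℕ, ∀ x ∈ 𝔟 ^ m, v x = 0) ∧ (Ideal.Quotient.mkₐ A J).comp v = u := by
  classical
  obtain ⟨k, hk⟩ := hC
  obtain ⟨m₁, hm₁⟩ := hu
  have hk0 : ∀ a ∈ 𝔞 ^ k, algebraMap A C a = 0 := fun a ha => by
    have := Ideal.mem_map_of_mem (algebraMap A C) ha
    rwa [hk, Ideal.mem_bot] at this
  obtain ⟨w, ⟨m₂, hm₂⟩, hw⟩ := hproj k C (C ⧸ J)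
    (fun a ha y => by rw [Algebra.smul_def, hk0 a ha, zero_mul])
    (fun a ha y => by
      rw [Algebra.smul_def, IsScalarTower.algebraMap_apply A C (C ⧸ J), hk0 a ha, map_zero, zero_mul])
    (Ideal.Quotient.mkₐ A J).toLinearMap Ideal.Quotient.mk_surjective u.toLinearMap ⟨m₁, hm₁⟩
  let I := 𝔟 ^ (max m₁ m₂)
  have hI₁ : ∀ x ∈ I, u x = 0 := fun x hx => hm₁ x (Ideal.pow_le_pow_right (le_max_left _ _) hx)
  have hI₂ : ∀ x ∈ I, w x = 0 := fun x hx => hm₂ x (Ideal.pow_le_pow_right (le_max_right _ _) hx)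
  let ub : B ⧸ I →ₐ[A] C ⧸ J := Ideal.Quotient.liftₐ I u hI₁
  let E : Subalgebra A (C × (B ⧸ I)) :=
    AlgHom.equalizer ((Ideal.Quotient.mkₐ A J).comp (AlgHom.fst A C (B ⧸ I))) (ub.comp (AlgHom.snd A C (B ⧸ I)))
  have hEmem : ∀ z : C × (B ⧸ I), z ∈ E ↔ Ideal.Quotient.mk J z.1 = ub z.2 := fun z => Iff.rfl
  let p₁ : E →ₐ[A] C := (AlgHom.fst A C (B ⧸ I)).comp E.val
  let p₂ : E →ₐ[A] B ⧸ I := (AlgHom.snd A C (B ⧸ I)).comp E.val
  let W : B ⧸ I →ₗ[A] C := (I.restrictScalars A).liftQ w fun x hx => hI₂ x hx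
  have hW : ∀ b, Ideal.Quotient.mk J (W b) = ub b := by
    intro b
    obtain ⟨b, rfl⟩ := Ideal.Quotient.mk_surjective b
    exact LinearMap.congr_fun hw b
  have hp₂ : Function.Surjective p₂ := fun b => ⟨⟨(W b, b), (hEmem _).2 (hW b)⟩, rfl⟩
  letI : CommRing E := E.toCommRing
  let aE : Ideal E := 𝔞.map (algebraMap A E)
  have hcap : aE ⊓ RingHom.ker p₂.toRingHom = ⊥ := by
    rw [eq_bot_iff]
    rintro y ⟨hy, hy0⟩
    have hy' : y ∈ (𝔞 • ⊤ : Submodule A E) := by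
      rw [Ideal.smul_top_eq_map]; exact hy
    have key : p₁ y = W (p₂ y) := by
      refine Submodule.smul_induction_on hy' (fun a ha e _ => ?_) (fun e e' he he' => by rw [map_add, he, he', map_add, map_add])
      rw [map_smul, map_smul, map_smul, ← sub_eq_zero, ← smul_sub]
      refine haJ a ha _ ?_
      rw [← Ideal.Quotient.eq, hW]
      exact (hEmem e.1).1 e.2
    rw [Submodule.mem_bot]
    have h2 : p₂ y = 0 := hy0
    refine Subtype.ext (Prod.ext ?_ h2)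
    show p₁ y = 0
    rw [key, h2, map_zero]
  have hEbar : ∃ σ : B →ₐ[A] E ⧸ aE, ∀ (b : B) (e : E), Ideal.Quotient.mk aE e = σ b →
      ∃ e' : E, p₂ e' = Ideal.Quotient.mk I b ∧ e - e' ∈ aE ⊔ RingHom.ker p₂.toRingHom := by
    let K : Ideal (E ⧸ aE) := (RingHom.ker p₂.toRingHom).map (Ideal.Quotient.mkₐ A aE)
    have hK : IsNilpotent K := ⟨2, by
      rw [Ideal.zero_eq_bot, eq_bot_iff]
      show ((RingHom.ker p₂.toRingHom).map (Ideal.Quotient.mkₐ A aE)) ^ 2 ≤ ⊥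
      rw [← Ideal.map_pow]
      have hsq : RingHom.ker p₂.toRingHom ^ 2 ≤ ⊥ := by
        rw [pow_two, Ideal.mul_le]
        intro e he e' he'
        have h2 : p₂ e = 0 := he
        have h2' : p₂ e' = 0 := he'
        have hj : p₁ e ∈ J ∧ p₁ e' ∈ J := by
          refine ⟨Ideal.Quotient.eq_zero_iff_mem.1 ?_, Ideal.Quotient.eq_zero_iff_mem.1 ?_⟩
          · show Ideal.Quotient.mk J e.1.1 = 0
            rw [(hEmem e.1).1 e.2, show (e.1 : C × (B ⧸ I)).2 = 0 from h2, map_zero]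
          · show Ideal.Quotient.mk J e'.1.1 = 0
            rw [(hEmem e'.1).1 e'.2, show (e'.1 : C × (B ⧸ I)).2 = 0 from h2', map_zero]
        rw [Ideal.mem_bot]
        refine Subtype.ext (Prod.ext ?_ ?_)
        · have := Ideal.mul_mem_mul hj.1 hj.2
          rw [← pow_two, hJ, Ideal.mem_bot] at this
          exact this
        · show p₂ e * p₂ e' = 0
          rw [h2, zero_mul]
      exact (Ideal.map_mono hsq).trans (by rw [Ideal.map_bot])⟩
    let φ : A ⧸ 𝔞 →+* E ⧸ aE := Ideal.Quotient.lift 𝔞 ((Ideal.Quotient.mk aE).comp (algebraMap A E))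
      fun a ha => Ideal.Quotient.eq_zero_iff_mem.2 (Ideal.mem_map_of_mem _ ha)
    letI : Algebra (A ⧸ 𝔞) (E ⧸ aE) := φ.toAlgebra
    haveI : IsScalarTower A (A ⧸ 𝔞) (E ⧸ aE) := IsScalarTower.of_algebraMap_eq fun _ => rfl
    let q : B →ₐ[A] (E ⧸ aE) ⧸ K :=
      ((DoubleQuot.quotQuotEquivQuotSupₐ A aE (RingHom.ker p₂.toRingHom)).symm.toAlgHom.comp
        (Ideal.Quotient.factorₐ A (le_sup_right : RingHom.ker p₂.toRingHom ≤ aE ⊔ RingHom.ker p₂.toRingHom))).comp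
        ((Ideal.quotientKerAlgEquivOfSurjective hp₂).symm.toAlgHom.comp (Ideal.Quotient.mkₐ A I))
    have hq : ∀ (b : B) (e : E), p₂ e = Ideal.Quotient.mk I b → q b = Ideal.Quotient.mk K (Ideal.Quotient.mk aE e) := by
      intro b e he
      have h1 : (Ideal.quotientKerAlgEquivOfSurjective hp₂).symm (Ideal.Quotient.mk I b) = Ideal.Quotient.mk _ e := by
        rw [AlgEquiv.symm_apply_eq]; exact he.symm
      show (DoubleQuot.quotQuotEquivQuotSupₐ A aE (RingHom.ker p₂.toRingHom)).symm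
        (Ideal.Quotient.factorₐ A le_sup_right
          ((Ideal.quotientKerAlgEquivOfSurjective hp₂).symm (Ideal.Quotient.mk I b))) = _
      rw [h1]
      rfl
    have hq0 : ∀ x ∈ 𝔞.map (algebraMap A B), q x = 0 := by
      intro x hx
      have hle : 𝔞.map (algebraMap A B) ≤ RingHom.ker q.toRingHom := Ideal.map_le_iff_le_comap.2 fun a ha => by
        show q (algebraMap A B a) = 0
        rw [AlgHom.commutes, IsScalarTower.algebraMap_apply A (E ⧸ aE) ((E ⧸ aE) ⧸ K),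
          show algebraMap A (E ⧸ aE) a = 0 from Ideal.Quotient.eq_zero_iff_mem.2 (Ideal.mem_map_of_mem _ ha), map_zero]
      exact hle hx
    let q₀ : B ⧸ 𝔞.map (algebraMap A B) →ₐ[A] (E ⧸ aE) ⧸ K := Ideal.Quotient.liftₐ _ q hq0
    let q₁ : B ⧸ 𝔞.map (algebraMap A B) →ₐ[A ⧸ 𝔞] (E ⧸ aE) ⧸ K :=
      { q₀.toRingHom with
        commutes' := fun r => by
          obtain ⟨a, rfl⟩ := Ideal.Quotient.mk_surjective r
          exact q₀.commutes a }
    obtain ⟨σ, hσ⟩ := h₀ (E ⧸ aE) K hK ⟨1, by rw [pow_one, Ideal.map_bot]⟩ q₁ ⟨max m₁ m₂, fun x hx => by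
      rw [← Ideal.map_pow] at hx
      obtain ⟨y, hy, rfl⟩ := (Ideal.mem_map_iff_of_surjective _ Ideal.Quotient.mk_surjective).1 hx
      show q y = 0
      rw [hq y 0 (by rw [map_zero]; exact (Ideal.Quotient.eq_zero_iff_mem.2 hy).symm), map_zero, map_zero]⟩
    refine ⟨(σ.restrictScalars A).comp (Ideal.Quotient.mkₐ A _), fun b e he => ?_⟩
    obtain ⟨e', he'⟩ := hp₂ (Ideal.Quotient.mk I b)
    refine ⟨e', he', ?_⟩
    have h1 : Ideal.Quotient.mk K (Ideal.Quotient.mk aE e) = Ideal.Quotient.mk K (Ideal.Quotient.mk aE e') := by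
      rw [← hq b e' he', he]
      exact AlgHom.congr_fun hσ (Ideal.Quotient.mk _ b)
    have h2 : Ideal.Quotient.mk aE (e - e') ∈ K := by rw [map_sub]; exact Ideal.Quotient.eq.1 h1
    have h3 := (Ideal.mem_quotient_iff_mem_sup (I := aE) (J := RingHom.ker p₂.toRingHom)).1 h2
    rwa [sup_comm] at h3
  obtain ⟨σ, hσ⟩ := hEbar
  obtain ⟨g, -, hg₂⟩ := exists_hom_inf aE (RingHom.ker p₂.toRingHom) σ
    ((Ideal.quotientKerAlgEquivOfSurjective hp₂).symm.toAlgHom.comp (Ideal.Quotient.mkₐ A I)) (fun b c₁ c₂ h₁ h₂ => by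
      obtain ⟨e', he', hmem⟩ := hσ b c₁ h₁
      have h3 : Ideal.Quotient.mk (RingHom.ker p₂.toRingHom) e' = Ideal.Quotient.mk _ c₂ := by
        rw [h₂]
        show _ = (Ideal.quotientKerAlgEquivOfSurjective hp₂).symm (Ideal.Quotient.mk I b)
        rw [eq_comm, AlgEquiv.symm_apply_eq]
        exact he'.symm
      rw [show c₁ - c₂ = (c₁ - e') + (e' - c₂) by ring]
      exact add_mem hmem (Submodule.mem_sup_right (Ideal.Quotient.eq.1 h3)))
  let back : E ⧸ (aE ⊓ RingHom.ker p₂.toRingHom) →ₐ[A] E :=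
    Ideal.Quotient.liftₐ _ (AlgHom.id A E) fun e he => by rw [hcap] at he; exact he
  let v : B →ₐ[A] C := p₁.comp (back.comp g)
  have hv2 : ∀ b, p₂ (back (g b)) = Ideal.Quotient.mk I b := by
    intro b
    obtain ⟨e, he⟩ := Ideal.Quotient.mk_surjective (g b)
    rw [← he]
    show p₂ e = _
    have h := AlgHom.congr_fun hg₂ b
    rw [AlgHom.comp_apply, ← he] at h
    exact (congrArg (Ideal.quotientKerAlgEquivOfSurjective hp₂) h).trans
      ((Ideal.quotientKerAlgEquivOfSurjective hp₂).apply_symm_apply _)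
  have hvu : ∀ b, Ideal.Quotient.mk J (v b) = u b := fun b => by
    show Ideal.Quotient.mk J ((back (g b)).1).1 = u b
    rw [(hEmem _).1 (back (g b)).2, show ((back (g b)).1 : C × (B ⧸ I)).2 = Ideal.Quotient.mk I b from hv2 b]
    rfl
  refine ⟨v, ⟨max m₁ m₂ + max m₁ m₂, fun x hx => ?_⟩, AlgHom.ext hvu⟩
  rw [pow_add] at hx
  refine Submodule.mul_induction_on hx (fun a ha b hb => ?_) (fun a b ha hb => by rw [map_add, ha, hb, add_zero])
  have hmem : ∀ y ∈ I, v y ∈ J := fun y hy => Ideal.Quotient.eq_zero_iff_mem.1 (by rw [hvu]; exact hI₁ y hy)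
  have := Ideal.mul_mem_mul (hmem a ha) (hmem b hb)
  rw [← pow_two, hJ, Ideal.mem_bot] at this
  rw [map_mul, this]

theorem isFormallySmoothAdic_of_quotient
    (h₀ : EGA41.IsFormallySmoothAdic (A ⧸ 𝔞) ⊥ (B ⧸ 𝔞.map (algebraMap A B))
        (𝔟.map (Ideal.Quotient.mk (𝔞.map (algebraMap A B)))))
    (hproj : ∀ (n : ℕ) (P Q : Type u) [AddCommGroup P] [Module A P] [AddCommGroup Q] [Module A Q],
      (∀ a ∈ 𝔞 ^ n, ∀ y : P, a • y = 0) → (∀ a ∈ 𝔞 ^ n, ∀ y : Q, a • y = 0) →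
      ∀ f : P →ₗ[A] Q, Function.Surjective f → ∀ v : B →ₗ[A] Q, (∃ m : ℕ, ∀ x ∈ 𝔟 ^ m, v x = 0) →
        ∃ w : B →ₗ[A] P, (∃ m : ℕ, ∀ x ∈ 𝔟 ^ m, w x = 0) ∧ f ∘ₗ w = v) :
    EGA41.IsFormallySmoothAdic A 𝔞 B 𝔟 := by
  intro C _ _ J hJ hC u hu
  obtain ⟨k, hk⟩ := hC
  obtain ⟨t, ht⟩ := hJ
  let L := J ⊔ 𝔞.map (algebraMap A C)
  let I : ℕ → Ideal C := fun i => L ^ (i + 1) ⊓ J
  have hanti : ∀ i, I (i + 1) ≤ I i := fun i => inf_le_inf_right _ (Ideal.pow_le_pow_right (by omega))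
  have hI0 : I 0 = J := by simp [I, L]
  have hIN : I (t + k) = ⊥ := by
    rw [eq_bot_iff]
    refine inf_le_left.trans ((Ideal.pow_le_pow_right (Nat.le_succ _)).trans ?_)
    refine Ideal.sup_pow_add_le_pow_sup_pow.trans (sup_le ?_ ?_)
    · rw [ht, Ideal.zero_eq_bot]
    · rw [← Ideal.map_pow, hk]
  have key : ∀ i, ∃ v : B →ₐ[A] C ⧸ I i, (∃ m : ℕ, ∀ x ∈ 𝔟 ^ m, v x = 0) ∧
      ∀ b c d, Ideal.Quotient.mk (I i) c = v b → Ideal.Quotient.mk J d = u b → c - d ∈ J := by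
    intro i
    induction i with
    | zero =>
      refine ⟨(Ideal.quotientEquivAlgOfEq A hI0.symm).toAlgHom.comp u, ?_, fun b c d hc hd => ?_⟩
      · obtain ⟨m, hm⟩ := hu
        exact ⟨m, fun x hx => by rw [AlgHom.comp_apply, hm x hx, map_zero]⟩
      · rw [AlgHom.comp_apply, ← hd] at hc
        have h1 : c - d ∈ I 0 := Ideal.Quotient.eq.1 hc
        rwa [hI0] at h1
    | succ i ih =>
      obtain ⟨v, hvk, hv⟩ := ih
      let K : Ideal (C ⧸ I (i + 1)) := (I i).map (Ideal.Quotient.mkₐ A (I (i + 1)))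
      let e := DoubleQuot.quotQuotEquivQuotOfLEₐ A (hanti i)
      obtain ⟨m, hm⟩ := hvk
      obtain ⟨v', hv'k, hv'⟩ := exists_lift_step 𝔞 𝔟 h₀ hproj (C := C ⧸ I (i + 1))
        ⟨k, by rw [IsScalarTower.algebraMap_eq A C (C ⧸ I (i + 1)), ← Ideal.map_map, hk, Ideal.map_bot]⟩ K
        (by
          rw [eq_bot_iff, ← Ideal.map_pow]
          refine (Ideal.map_mono (?_ : I i ^ 2 ≤ I (i + 1))).trans ?_
          · refine le_inf ((Ideal.pow_right_mono inf_le_left 2).trans ?_)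
              ((Ideal.pow_le_self two_ne_zero).trans inf_le_right)
            rw [← pow_mul]
            exact Ideal.pow_le_pow_right (by omega)
          · exact (Ideal.map_quotient_self _).le)
        (fun a ha j hj => by
          obtain ⟨c, hc, rfl⟩ := (Ideal.mem_map_iff_of_surjective _ Ideal.Quotient.mk_surjective).1 hj
          show a • Ideal.Quotient.mkₐ A (I (i + 1)) c = 0
          rw [← map_smul]
          refine Ideal.Quotient.eq_zero_iff_mem.2 ⟨?_, ?_⟩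
          · rw [Algebra.smul_def, pow_succ' L (i + 1)]
            exact Ideal.mul_mem_mul (Submodule.mem_sup_right (Ideal.mem_map_of_mem _ ha)) hc.1
          · rw [Algebra.smul_def]; exact J.mul_mem_left _ hc.2)
        (e.symm.toAlgHom.comp v) ⟨m, fun x hx => by rw [AlgHom.comp_apply, hm x hx, map_zero]⟩
      refine ⟨v', hv'k, fun b c d hc hd => hv b c d ?_ hd⟩
      have h1 : Ideal.Quotient.mk K (v' b) = e.symm (v b) := AlgHom.congr_fun hv' b
      rw [← hc] at h1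
      exact ((congrArg e h1).trans (e.apply_symm_apply _)).symm.symm
  obtain ⟨v, -, hv⟩ := key (t + k)
  let back : C ⧸ I (t + k) →ₐ[A] C := Ideal.Quotient.liftₐ _ (AlgHom.id A C) fun c hc => by
    rw [hIN] at hc; exact hc
  refine ⟨back.comp v, AlgHom.ext fun b => ?_⟩
  obtain ⟨c, hc⟩ := Ideal.Quotient.mk_surjective (v b)
  obtain ⟨d, hd⟩ := Ideal.Quotient.mk_surjective (u b)
  show Ideal.Quotient.mk J (back (v b)) = u b
  rw [← hc, ← hd]
  exact Ideal.Quotient.eq.2 (hv b c d hc hd)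

end Groth.Agent.FSmoothAdicLib
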